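import Mathlib.LinearAlgebra.Matrix.GeneralLinearGroup.Defs
import Mathlib.LinearAlgebra.Matrix.Notation
import Mathlib.Data.ZMod.Basic
import Mathlib.SetTheory.Cardinal.Finite
import Mathlib.Tactic

set_option autoImplicit false

namespace Cfsg.Agent.Perm.SharpRegular

open Matrix

variable {K : Type*} [Field K]

/-- If an equivariant map `s` takes `e₁` to `e₂`, elements of the closure commute with it. -/
theorem equivariant_of_gens (S : Set (Matrix.GeneralLinearGroup (Fin 2) K))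
    (s : (Fin 2 → K) → (Fin 2 → K))
    (hs : ∀ g ∈ S, ∀ v : Fin 2 → K, v ≠ 0 →
      s ((g : Matrix (Fin 2) (Fin 2) K) *ᵥ v) = (g : Matrix (Fin 2) (Fin 2) K) *ᵥ s v)
    (h : Matrix.GeneralLinearGroup (Fin 2) K) (hh : h ∈ Subgroup.closure S) :
    ∀ v : Fin 2 → K, v ≠ 0 →
      s ((h : Matrix (Fin 2) (Fin 2) K) *ᵥ v) = (h : Matrix (Fin 2) (Fin 2) K) *ᵥ s v := by
  have key : ∀ (g : Matrix.GeneralLinearGroup (Fin 2) K) (v : Fin 2 → K), v ≠ 0 →
      (g : Matrix (Fin 2) (Fin 2) K) *ᵥ v ≠ 0 := by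
    intro g v hv h0
    apply hv
    have : ((g⁻¹ : Matrix.GeneralLinearGroup (Fin 2) K) : Matrix (Fin 2) (Fin 2) K) *ᵥ
        ((g : Matrix (Fin 2) (Fin 2) K) *ᵥ v) = v := by
      rw [Matrix.mulVec_mulVec, ← Units.val_mul, inv_mul_cancel, Units.val_one, Matrix.one_mulVec]
    rw [← this, h0, Matrix.mulVec_zero]
  induction hh using Subgroup.closure_induction with
  | mem x hx => exact hs x hx
  | one => intro v _; simp
  | mul x y _ _ hx hy =>
    intro v hv
    rw [Units.val_mul, ← Matrix.mulVec_mulVec, hx _ (key y v hv), hy v hv, Matrix.mulVec_mulVec]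
  | inv x _ hx =>
    intro v hv
    have h1 := hx _ (key x⁻¹ v hv)
    rw [Matrix.mulVec_mulVec, ← Units.val_mul, mul_inv_cancel, Units.val_one,
      Matrix.one_mulVec] at h1
    rw [h1, Matrix.mulVec_mulVec, ← Units.val_mul, inv_mul_cancel, Units.val_one,
      Matrix.one_mulVec]

/-- A regularity criterion for a matrix group acting on the nonzero vectors of a plane. -/
theorem regular_of_section [Finite K] (S : Set (Matrix.GeneralLinearGroup (Fin 2) K))
    (s : (Fin 2 → K) → (Fin 2 → K)) (h1 : s ![1, 0] = ![0, 1])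
    (hs : ∀ g ∈ S, ∀ v : Fin 2 → K, v ≠ 0 →
      s ((g : Matrix (Fin 2) (Fin 2) K) *ᵥ v) = (g : Matrix (Fin 2) (Fin 2) K) *ᵥ s v)
    (ht : ∀ v : Fin 2 → K, v ≠ 0 → ∃ h ∈ Subgroup.closure S,
      ((h : Matrix.GeneralLinearGroup (Fin 2) K) : Matrix (Fin 2) (Fin 2) K) *ᵥ ![1, 0] = v) :
    Nat.card (Subgroup.closure S) = Nat.card K ^ 2 - 1 ∧
    ∀ v w : Fin 2 → K, v ≠ 0 → w ≠ 0 → ∃! h : Subgroup.closure S,
      Matrix.mulVec ((h : Matrix.GeneralLinearGroup (Fin 2) K) : Matrix (Fin 2) (Fin 2) K) v = w := by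
  classical
  have hcomm := equivariant_of_gens S s hs
  have he : (![1, 0] : Fin 2 → K) ≠ 0 := by
    intro h
    have := congrFun h 0
    simp at this
  have key : ∀ (g : Matrix.GeneralLinearGroup (Fin 2) K) (v : Fin 2 → K), v ≠ 0 →
      (g : Matrix (Fin 2) (Fin 2) K) *ᵥ v ≠ 0 := by
    intro g v hv h0
    apply hv
    have : ((g⁻¹ : Matrix.GeneralLinearGroup (Fin 2) K) : Matrix (Fin 2) (Fin 2) K) *ᵥ
        ((g : Matrix (Fin 2) (Fin 2) K) *ᵥ v) = v := by
      rw [Matrix.mulVec_mulVec, ← Units.val_mul, inv_mul_cancel, Units.val_one, Matrix.one_mulVec]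
    rw [← this, h0, Matrix.mulVec_zero]
  -- the stabiliser of `e₁` is trivial
  have stab : ∀ h ∈ Subgroup.closure S,
      (h : Matrix (Fin 2) (Fin 2) K) *ᵥ ![1, 0] = ![1, 0] → h = 1 := by
    intro h hh hfix
    have h2 : (h : Matrix (Fin 2) (Fin 2) K) *ᵥ ![0, 1] = ![0, 1] := by
      have := hcomm h hh _ he
      rw [hfix, h1] at this
      exact this.symm
    ext i j
    have a1 := congrFun hfix i
    have a2 := congrFun h2 i
    simp only [Matrix.mulVec, dotProduct, Fin.sum_univ_two] at a1 a2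
    fin_cases j
    · fin_cases i <;> simpa using a1
    · fin_cases i <;> simpa using a2
  have inj : ∀ (v : Fin 2 → K), v ≠ 0 → ∀ h ∈ Subgroup.closure S,
      (h : Matrix (Fin 2) (Fin 2) K) *ᵥ v = v → h = 1 := by
    intro v hv h hh hfix
    obtain ⟨k, hk, hkv⟩ := ht v hv
    have h3 : k⁻¹ * h * k = 1 := by
      apply stab _ (mul_mem (mul_mem (inv_mem hk) hh) hk)
      rw [Units.val_mul, Units.val_mul, ← Matrix.mulVec_mulVec, ← Matrix.mulVec_mulVec, hkv, hfix,
        ← hkv, Matrix.mulVec_mulVec, ← Units.val_mul, inv_mul_cancel, Units.val_one,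
        Matrix.one_mulVec]
    have : h = k * (k⁻¹ * h * k) * k⁻¹ := by group
    rw [this, h3]; group
  have inj2 : ∀ (v : Fin 2 → K), v ≠ 0 → ∀ h ∈ Subgroup.closure S, ∀ k ∈ Subgroup.closure S,
      (h : Matrix (Fin 2) (Fin 2) K) *ᵥ v = (k : Matrix (Fin 2) (Fin 2) K) *ᵥ v → h = k := by
    intro v hv h hh k hk heq
    have : k⁻¹ * h = 1 := by
      apply inj v hv _ (mul_mem (inv_mem hk) hh)
      rw [Units.val_mul, ← Matrix.mulVec_mulVec, heq, Matrix.mulVec_mulVec, ← Units.val_mul,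
        inv_mul_cancel, Units.val_one, Matrix.one_mulVec]
    exact (inv_mul_eq_one.mp this).symm
  refine ⟨?_, ?_⟩
  · let f : Subgroup.closure S → {v : Fin 2 → K // v ≠ 0} := fun h =>
      ⟨((h : Matrix.GeneralLinearGroup (Fin 2) K) : Matrix (Fin 2) (Fin 2) K) *ᵥ ![1, 0],
        key _ _ he⟩
    have hf : Function.Bijective f := by
      constructor
      · intro a b hab
        have := congrArg Subtype.val hab
        exact Subtype.ext (inj2 _ he _ a.2 _ b.2 this)
      · rintro ⟨v, hv⟩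
        obtain ⟨h, hh, hv'⟩ := ht v hv
        exact ⟨⟨h, hh⟩, Subtype.ext hv'⟩
    rw [Nat.card_congr (Equiv.ofBijective f hf)]
    have : Fintype K := Fintype.ofFinite K
    rw [Nat.card_eq_fintype_card, Nat.card_eq_fintype_card, Fintype.card_subtype_compl,
      Fintype.card_subtype_eq]
    simp
  · intro v w hv hw
    obtain ⟨h, hh, hv'⟩ := ht v hv
    obtain ⟨k, hk, hw'⟩ := ht w hw
    refine ⟨⟨k * h⁻¹, mul_mem hk (inv_mem hh)⟩, ?_, ?_⟩
    · show ((k * h⁻¹ : Matrix.GeneralLinearGroup (Fin 2) K) : Matrix (Fin 2) (Fin 2) K) *ᵥ v = w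
      rw [← hv', Matrix.mulVec_mulVec, ← Units.val_mul, inv_mul_cancel_right, hw']
    · rintro ⟨l, hl⟩ hlv
      apply Subtype.ext
      apply inj2 v hv _ hl _ (mul_mem hk (inv_mem hh))
      show (l : Matrix (Fin 2) (Fin 2) K) *ᵥ v = _
      change (l : Matrix (Fin 2) (Fin 2) K) *ᵥ v = w at hlv
      rw [hlv, ← hv', Matrix.mulVec_mulVec, ← Units.val_mul, inv_mul_cancel_right, hw']

end Cfsg.Agent.Perm.SharpRegular
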